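import Cfsg.Agent.Lib.StrongEmb.ElemCent2

/-!
# Involution centralizers elementary abelian: sharp 3-transitivity

With `H = N_G(T)` and `u ∉ H` an involution, `D = H ∩ uHu⁻¹`: the fixed points of `D` on `G ⧸ H` are
`H` and `uH`, `N_G(D) = D⟨u⟩`, `T` acts regularly on the cosets other than `H`, and `G` is
sharply 3-transitive on the cosets.
-/

set_option autoImplicit false
set_option linter.unusedSectionVars false

namespace Cfsg.Agent.Lib.StrongEmb.ElemCent3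

open Cfsg
open Cfsg.Agent.Lib.Involutions.Dihedral
open Cfsg.Agent.Lib.StrongEmb.Basic
open Cfsg.Agent.Lib.StrongEmb.ElemCent
open Cfsg.Agent.Lib.StrongEmb.ElemCent2

variable {G : Type*} [Group G] [Finite G]
variable (hC : ElemCentHyp G) (T : Sylow 2 G)
  (hnc : ¬ IsCyclic (T : Subgroup G)) (hnn : ¬ (T : Subgroup G).Normal)

include hnc in
theorem three_le_card : 3 ≤ Nat.card (T : Subgroup G) := by
  by_contra h
  have hne := sylow_ne_bot T hnc
  have hpos : 0 < Nat.card (T : Subgroup G) := Nat.card_pos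
  have h1 : Nat.card (T : Subgroup G) ≠ 1 := by
    intro h1
    exact hne (Subgroup.eq_bot_of_card_eq _ h1)
  have h2 : Nat.card (T : Subgroup G) = 2 := by omega
  have : Fact (Nat.Prime 2) := ⟨Nat.prime_two⟩
  exact hnc (isCyclic_of_prime_card h2)

section WithU

variable {u : G} (hu : orderOf u = 2) (huH : u ∉ Nm T)

include hC hnc hnn hu huH in
theorem exists_ne_one_D : ∃ d ∈ Dd T u, d ≠ 1 := by
  have h1 := card_D hC T hnc hnn hu huH
  have h2 := three_le_card T hnc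
  have h3 : 1 < Nat.card (Dd T u) := by omega
  have h4 : Nontrivial (Dd T u) := Finite.one_lt_card_iff_nontrivial.mp h3
  obtain ⟨d, hd⟩ := exists_ne (1 : Dd T u)
  exact ⟨d.1, d.2, fun h => hd (Subtype.ext h)⟩

include hC hnc hnn hu huH in
/-- The fixed points of `D`. -/
theorem fix_D {z : G ⧸ Nm T} (hz : ∀ d ∈ Dd T u, d • z = z) :
    z = QuotientGroup.mk 1 ∨ z = QuotientGroup.mk u := by
  by_contra hne
  rw [not_or] at hne
  obtain ⟨d, hd, hd1⟩ := exists_ne_one_D hC T hnc hnn hu huH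
  obtain ⟨h1, h2⟩ := mem_D_iff.mp hd
  exact hd1 (eq_one_of_three_fix hC T hnc hnn (mk_one_ne_mk huH) (Ne.symm hne.1) (Ne.symm hne.2)
    h1 h2 (hz d hd))

theorem mk_smul_one (h : G) {H : Subgroup G} :
    h • (QuotientGroup.mk 1 : G ⧸ H) = QuotientGroup.mk h := by
  change (QuotientGroup.mk (h * 1) : G ⧸ H) = QuotientGroup.mk h
  rw [mul_one]

include hC hnc hnn hu huH in
/-- `N_G(D) = D ⟨u⟩`. -/
theorem normalizer_D :
    Subgroup.normalizer ((Dd T u : Subgroup G) : Set G) = Dd T u ⊔ Subgroup.zpowers u := by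
  have huinv : u⁻¹ = u := inv_eq_of_sq (sq_of_orderOf_two hu)
  have huu : u * u = 1 := mul_self_of_sq (sq_of_orderOf_two hu)
  have hux : u • (QuotientGroup.mk 1 : G ⧸ Nm T) = QuotientGroup.mk u := mk_smul_one u
  have huy : u • (QuotientGroup.mk u : G ⧸ Nm T) = QuotientGroup.mk 1 := by
    rw [← hux, smul_smul, huu, one_smul]
  have hne := mk_one_ne_mk (H := Nm T) huH
  apply le_antisymm
  · intro n hn
    -- `n` permutes the fixed points of `D`
    have hperm : ∀ z : G ⧸ Nm T, (∀ d ∈ Dd T u, d • z = z) → ∀ d ∈ Dd T u, d • (n • z) = n • z := by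
      intro z hz d hd
      have h1 : n⁻¹ * d * n⁻¹⁻¹ ∈ Dd T u :=
        (Subgroup.mem_normalizer_iff.mp ((Subgroup.normalizer _).inv_mem hn) d).mp hd
      have h2 := hz _ h1
      rw [inv_inv] at h2
      calc d • n • z = n • ((n⁻¹ * d * n) • z) := by
            rw [smul_smul, smul_smul]; congr 1; group
        _ = n • z := by rw [h2]
    have hfixx : ∀ d ∈ Dd T u, d • (QuotientGroup.mk 1 : G ⧸ Nm T) = QuotientGroup.mk 1 :=
      fun d hd => (mem_D_iff.mp hd).1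
    have hfixy : ∀ d ∈ Dd T u, d • (QuotientGroup.mk u : G ⧸ Nm T) = QuotientGroup.mk u :=
      fun d hd => (mem_D_iff.mp hd).2
    have hnx := fix_D hC T hnc hnn hu huH (hperm _ hfixx)
    have hny := fix_D hC T hnc hnn hu huH (hperm _ hfixy)
    have hinj : n • (QuotientGroup.mk 1 : G ⧸ Nm T) ≠ n • QuotientGroup.mk u := by
      intro h
      exact hne (smul_left_cancel n h)
    rcases hnx with hnx | hnx
    · -- `n` fixes `x`, hence `y`
      have hny' : n • (QuotientGroup.mk u : G ⧸ Nm T) = QuotientGroup.mk u := by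
        rcases hny with h | h
        · exact absurd (hnx.trans h.symm) hinj
        · exact h
      exact (le_sup_left : Dd T u ≤ _) (mem_D_iff.mpr ⟨hnx, hny'⟩)
    · have hny' : n • (QuotientGroup.mk u : G ⧸ Nm T) = QuotientGroup.mk 1 := by
        rcases hny with h | h
        · exact h
        · exact absurd (hnx.trans h.symm) hinj
      have hmem : u * n ∈ Dd T u := by
        refine mem_D_iff.mpr ⟨?_, ?_⟩
        · rw [mul_smul, hnx, huy]
        · rw [mul_smul, hny', hux]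
      have h1 : n = u * (u * n) := by rw [← mul_assoc, huu, one_mul]
      rw [h1]
      exact Subgroup.mul_mem _ ((le_sup_right : Subgroup.zpowers u ≤ _) (Subgroup.mem_zpowers u))
        ((le_sup_left : Dd T u ≤ _) hmem)
  · rw [sup_le_iff]
    constructor
    · exact Subgroup.le_normalizer
    · rw [Subgroup.zpowers_le, Subgroup.mem_normalizer_iff]
      intro x
      have key : ∀ x ∈ Dd T u, u * x * u⁻¹ ∈ Dd T u := by
        intro x hx
        rw [D_inverted hC T hnc hnn hu huH hx]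
        exact (Dd T u).inv_mem hx
      constructor
      · exact key x
      · intro h
        have := key _ h
        have h2 : u * (u * x * u⁻¹) * u⁻¹ = x := by
          rw [huinv]
          calc u * (u * x * u) * u = (u * u) * x * (u * u) := by group
            _ = x := by rw [huu]; group
        rwa [h2] at this

include hC hnc hnn hu huH in
/-- `T` is transitive on the cosets different from `H`. -/
theorem exists_mem_smul {z : G ⧸ Nm T} (hz : z ≠ QuotientGroup.mk 1) :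
    ∃ t ∈ (T : Subgroup G), t • (QuotientGroup.mk u : G ⧸ Nm T) = z := by
  have hSE := isStronglyEmbedded_normalizer hC T hnc hnn
  have hne := sylow_ne_bot T hnc
  obtain ⟨hcomm, hexp⟩ := sylow_structure hC T hne
  -- `z = i H`, with `i` an involution
  obtain ⟨i, hi, hiz⟩ := exists_swap_pt hSE (Ne.symm hz)
  have hiz' : (QuotientGroup.mk i : G ⧸ Nm T) = z := by rw [← mk_smul_one, hiz]
  have hiH : i ∉ Nm T := by
    intro h
    apply hz
    rw [← hiz']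
    exact ((mk_eq_mk_iff (H := Nm T) i 1).mpr (by simpa using (Nm T).inv_mem h))
  obtain ⟨d', hd', hd'1⟩ := exists_ne_one_D hC T hnc hnn hi hiH
  obtain ⟨hd'x, hd'z⟩ := mem_D_iff.mp hd'
  obtain ⟨d₀, hd₀, t₀, ht₀, hdt⟩ := exists_dt hC T hnc hnn hu huH hd'.1
  have hd₀N : d₀ ∈ Nm T := hd₀.1
  have hconj : ∀ a ∈ Nm T, ∀ t ∈ (T : Subgroup G), a * t * a⁻¹ ∈ (T : Subgroup G) := by
    intro a ha t ht
    exact (Subgroup.mem_normalizer_iff.mp ha t).mp ht
  have hd₀1 : d₀ ≠ 1 := by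
    intro h
    rw [h, one_mul] at hdt
    rw [hdt] at hd'
    exact hd'1 (hdt.trans (D_inf_T hC T hnc hnn hiH hd' ht₀))
  -- the map `φ(t) = t * d₀ t⁻¹ d₀⁻¹` on `T`
  let φ : ↥(T : Subgroup G) → ↥(T : Subgroup G) := fun t =>
    ⟨t.1 * (d₀ * t.1⁻¹ * d₀⁻¹), (T : Subgroup G).mul_mem t.2
      (hconj d₀ hd₀N _ ((T : Subgroup G).inv_mem t.2))⟩
  have hφ : Function.Injective φ := by
    rintro ⟨t, ht⟩ ⟨s, hs⟩ h
    have h1 : t * (d₀ * t⁻¹ * d₀⁻¹) = s * (d₀ * s⁻¹ * d₀⁻¹) := congrArg Subtype.val h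
    by_contra hts
    have hts' : t ≠ s := fun h => hts (Subtype.ext h)
    have hcT : s⁻¹ * t ∈ (T : Subgroup G) := (T : Subgroup G).mul_mem ((T : Subgroup G).inv_mem hs) ht
    have hc1 : s⁻¹ * t ≠ 1 := by
      intro h
      apply hts'
      have := congrArg (fun w => s * w) h
      simpa using this
    have hord : orderOf (s⁻¹ * t) = 2 := orderOf_eq_prime (hexp _ hcT) hc1
    -- `d₀` commutes with `s⁻¹ t`
    have hcomm1 : d₀ * (s⁻¹ * t) = (s⁻¹ * t) * d₀ := by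
      have h6 : d₀ * (s⁻¹ * t) * d₀⁻¹ = s⁻¹ * t := by
        have h2 : s⁻¹ * t = (d₀ * s⁻¹ * d₀⁻¹) * (d₀ * t⁻¹ * d₀⁻¹)⁻¹ := by
          calc s⁻¹ * t = s⁻¹ * (t * (d₀ * t⁻¹ * d₀⁻¹)) * (d₀ * t⁻¹ * d₀⁻¹)⁻¹ := by group
            _ = s⁻¹ * (s * (d₀ * s⁻¹ * d₀⁻¹)) * (d₀ * t⁻¹ * d₀⁻¹)⁻¹ := by rw [h1]
            _ = (d₀ * s⁻¹ * d₀⁻¹) * (d₀ * t⁻¹ * d₀⁻¹)⁻¹ := by group
        nth_rewrite 2 [h2]
        group
      exact mul_inv_eq_iff_eq_mul.mp h6
    have hd₀T : d₀ ∈ (T : Subgroup G) := by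
      rw [← centralizer_eq hC T hord hcT, mem_centralizer_singleton]
      exact hcomm1
    exact hd₀1 (D_inf_T hC T hnc hnn huH hd₀ hd₀T)
  have hφs := Finite.injective_iff_surjective.mp hφ
  have hmem0 : d₀ * t₀ * d₀⁻¹ ∈ (T : Subgroup G) := hconj d₀ hd₀N t₀ ht₀
  obtain ⟨⟨t₁, ht₁⟩, ht₁'⟩ := hφs ⟨(d₀ * t₀ * d₀⁻¹)⁻¹, (T : Subgroup G).inv_mem hmem0⟩
  have ht₁'' : t₁ * (d₀ * t₁⁻¹ * d₀⁻¹) = (d₀ * t₀ * d₀⁻¹)⁻¹ := congrArg Subtype.val ht₁'
  -- `t₁ d' t₁⁻¹ = d₀`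
  have hconjd : t₁ * d' * t₁⁻¹ = d₀ := by
    have hmem1 : d₀ * t₁⁻¹ * d₀⁻¹ ∈ (T : Subgroup G) :=
      hconj d₀ hd₀N _ ((T : Subgroup G).inv_mem ht₁)
    have h1 : t₁ * d' * t₁⁻¹ * d₀⁻¹ = t₁ * (d₀ * t₀ * d₀⁻¹) * (d₀ * t₁⁻¹ * d₀⁻¹) := by
      rw [hdt]; group
    have h2 : t₁ * (d₀ * t₀ * d₀⁻¹) = (d₀ * t₀ * d₀⁻¹) * t₁ := hcomm _ ht₁ _ hmem0
    have h3 : t₁ * d' * t₁⁻¹ * d₀⁻¹ = 1 := by
      rw [h1, h2, mul_assoc, ht₁'', mul_inv_cancel]
    exact mul_inv_eq_one.mp h3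
  -- `d₀` fixes `t₁ z`
  have hfix : d₀ • (t₁ • (QuotientGroup.mk i : G ⧸ Nm T)) = t₁ • QuotientGroup.mk i := by
    rw [← hconjd, smul_smul]
    have : t₁ * d' * t₁⁻¹ * t₁ = t₁ * d' := by group
    rw [this, mul_smul, hd'z]
  have ht₁N : t₁ ∈ Nm T := Subgroup.le_normalizer ht₁
  have hx : t₁ • (QuotientGroup.mk 1 : G ⧸ Nm T) = QuotientGroup.mk 1 := by
    rw [smul_mk_eq_mk_iff]; simpa using ht₁N
  have hw1 : (QuotientGroup.mk 1 : G ⧸ Nm T) ≠ t₁ • QuotientGroup.mk i := by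
    intro h
    apply hz
    rw [← hiz']
    rw [← hx] at h
    exact (smul_left_cancel t₁ h).symm
  obtain ⟨hd₀x, hd₀y⟩ := mem_D_iff.mp hd₀
  have hw : t₁ • (QuotientGroup.mk i : G ⧸ Nm T) = QuotientGroup.mk u := by
    by_contra hw
    exact hd₀1 (eq_one_of_three_fix hC T hnc hnn (mk_one_ne_mk huH) hw1 (Ne.symm hw) hd₀x hd₀y hfix)
  refine ⟨t₁⁻¹, (T : Subgroup G).inv_mem ht₁, ?_⟩
  rw [← hw, inv_smul_smul, hiz']

include hC hnc hnn in
/-- `T` is regular on the cosets different from `H`. -/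
theorem existsUnique_mem_smul {x y : G ⧸ Nm T} (hx : x ≠ QuotientGroup.mk 1)
    (hy : y ≠ QuotientGroup.mk 1) : ∃! t : G, t ∈ (T : Subgroup G) ∧ t • x = y := by
  have hSE := isStronglyEmbedded_normalizer hC T hnc hnn
  have hne := sylow_ne_bot T hnc
  obtain ⟨hcomm, hexp⟩ := sylow_structure hC T hne
  obtain ⟨u, hu, huH⟩ := exists_involution_outside hC T hnc hnn
  obtain ⟨ta, hta, htax⟩ := exists_mem_smul hC T hnc hnn hu huH hx
  obtain ⟨tb, htb, htby⟩ := exists_mem_smul hC T hnc hnn hu huH hy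
  refine ⟨tb * ta⁻¹, ⟨(T : Subgroup G).mul_mem htb ((T : Subgroup G).inv_mem hta), ?_⟩, ?_⟩
  · rw [mul_smul, ← htax, inv_smul_smul, htby]
  · rintro t ⟨ht, htxy⟩
    have h1 : (tb * ta⁻¹)⁻¹ * t ∈ (T : Subgroup G) :=
      (T : Subgroup G).mul_mem ((T : Subgroup G).inv_mem
        ((T : Subgroup G).mul_mem htb ((T : Subgroup G).inv_mem hta))) ht
    have h2 : ((tb * ta⁻¹)⁻¹ * t) • x = x := by
      have h3 : (tb * ta⁻¹) • x = y := by
        rw [mul_smul, ← htax, inv_smul_smul, htby]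
      rw [mul_smul, htxy, ← h3, inv_smul_smul]
    have h4 : ((tb * ta⁻¹)⁻¹ * t) • (QuotientGroup.mk 1 : G ⧸ Nm T) = QuotientGroup.mk 1 := by
      rw [smul_mk_eq_mk_iff]
      have h := (Subgroup.le_normalizer h1 : _ ∈ Nm T)
      convert h using 1
      group
    have h5 := odd_orderOf_of_fix_two hSE hx h2 h4
    have h6 := eq_one_of_sq_of_odd (hexp _ h1) h5
    exact (inv_mul_eq_one.mp h6).symm
  
end WithU

include hC hnc hnn in
/-- Each triple of distinct cosets is the image of a fixed one. -/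
theorem exists_base :
    ∃ b₁ b₂ b₃ : G ⧸ Nm T, ∀ x₁ x₂ x₃ : G ⧸ Nm T, x₁ ≠ x₂ → x₁ ≠ x₃ → x₂ ≠ x₃ →
      ∃ g : G, g • b₁ = x₁ ∧ g • b₂ = x₂ ∧ g • b₃ = x₃ := by
  have hSE := isStronglyEmbedded_normalizer hC T hnc hnn
  have hne := sylow_ne_bot T hnc
  obtain ⟨hcomm, hexp⟩ := sylow_structure hC T hne
  obtain ⟨u, hu, huH⟩ := exists_involution_outside hC T hnc hnn
  obtain ⟨s₀, hs₀T, hs₀, -⟩ := even_card_sylow_of_ne_bot T hne
  refine ⟨QuotientGroup.mk 1, QuotientGroup.mk u, s₀ • QuotientGroup.mk u, ?_⟩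
  intro x₁ x₂ x₃ h12 h13 h23
  induction x₁ using QuotientGroup.induction_on with
  | H a =>
    have h1 : a⁻¹ • x₂ ≠ QuotientGroup.mk 1 := by
      intro h
      apply h12
      have : x₂ = a • (QuotientGroup.mk 1 : G ⧸ Nm T) := by rw [← h, smul_inv_smul]
      rw [this, mk_smul_one]
    obtain ⟨t, ht, htu⟩ := exists_mem_smul hC T hnc hnn hu huH h1
    have htN : t ∈ Nm T := Subgroup.le_normalizer ht
    have htx : t • (QuotientGroup.mk 1 : G ⧸ Nm T) = QuotientGroup.mk 1 := by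
      rw [smul_mk_eq_mk_iff]; simpa using htN
    set g₂ := a * t with hg₂
    have hg₂1 : g₂ • (QuotientGroup.mk 1 : G ⧸ Nm T) = QuotientGroup.mk a := by
      rw [hg₂, mul_smul, htx, mk_smul_one]
    have hg₂2 : g₂ • (QuotientGroup.mk u : G ⧸ Nm T) = x₂ := by
      rw [hg₂, mul_smul, htu, smul_inv_smul]
    have hz1 : g₂⁻¹ • x₃ ≠ QuotientGroup.mk 1 := by
      intro h
      apply h13
      rw [← hg₂1, ← h, smul_inv_smul]
    have hz2 : g₂⁻¹ • x₃ ≠ QuotientGroup.mk u := by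
      intro h
      apply h23
      rw [← hg₂2, ← h, smul_inv_smul]
    obtain ⟨t', ht', ht'z⟩ := exists_mem_smul hC T hnc hnn hu huH hz1
    have ht'1 : t' ≠ 1 := by
      rintro rfl
      rw [one_smul] at ht'z
      exact hz2 ht'z.symm
    have hord' : orderOf t' = 2 := orderOf_eq_prime (hexp _ ht') ht'1
    obtain ⟨d, hd, hds⟩ := exists_conj_mem_inf hSE hu huH hs₀ (Subgroup.le_normalizer hs₀T) hord'
      (Subgroup.le_normalizer ht')
    obtain ⟨hdx, hdy⟩ := mem_D_iff.mp hd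
    refine ⟨g₂ * d, ?_, ?_, ?_⟩
    · rw [mul_smul, hdx, hg₂1]
    · rw [mul_smul, hdy, hg₂2]
    · have h3 : d • s₀ • (QuotientGroup.mk u : G ⧸ Nm T) = g₂⁻¹ • x₃ := by
        calc d • s₀ • (QuotientGroup.mk u : G ⧸ Nm T)
            = (d * s₀) • (QuotientGroup.mk u : G ⧸ Nm T) := by rw [mul_smul]
          _ = (d * s₀ * d⁻¹) • d • (QuotientGroup.mk u : G ⧸ Nm T) := by
              rw [smul_smul]; congr 1; group
          _ = t' • (QuotientGroup.mk u : G ⧸ Nm T) := by rw [hds, hdy]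
          _ = g₂⁻¹ • x₃ := ht'z
      rw [mul_smul, h3, smul_inv_smul]

include hC hnc hnn in
/-- `G` is 3-transitive on cosets. -/
theorem three_transitive (x₁ x₂ x₃ y₁ y₂ y₃ : G ⧸ Nm T) (h12 : x₁ ≠ x₂) (h13 : x₁ ≠ x₃) (h23 : x₂ ≠ x₃)
    (k12 : y₁ ≠ y₂) (k13 : y₁ ≠ y₃) (k23 : y₂ ≠ y₃) :
    ∃ g : G, g • x₁ = y₁ ∧ g • x₂ = y₂ ∧ g • x₃ = y₃ := by
  obtain ⟨b₁, b₂, b₃, hb⟩ := exists_base hC T hnc hnn
  obtain ⟨g, hg₁, hg₂, hg₃⟩ := hb x₁ x₂ x₃ h12 h13 h23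
  obtain ⟨k, hk₁, hk₂, hk₃⟩ := hb y₁ y₂ y₃ k12 k13 k23
  refine ⟨k * g⁻¹, ?_, ?_, ?_⟩
  · rw [mul_smul, ← hg₁, inv_smul_smul, hk₁]
  · rw [mul_smul, ← hg₂, inv_smul_smul, hk₂]
  · rw [mul_smul, ← hg₃, inv_smul_smul, hk₃]

end Cfsg.Agent.Lib.StrongEmb.ElemCent3
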