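import Mathlib

/-!
# A field from a commutative group acting regularly on the non-identity elements of an abelian group

Let `A` be an abelian group (written multiplicatively), `M` an abelian group acting on `A` by
automorphisms, regularly on `A ∖ {1}`.  Fixing `e ≠ 1`, `Additive A` becomes a field with unit `e`,
with multiplication `(φ m e) * y = φ m y`.
-/

set_option autoImplicit false

namespace Cfsg.Agent.Lib.StrongEmb.FieldOf

variable {A M : Type*} [CommGroup A] [CommGroup M]

/-- Regularity on the non-identity elements. -/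
structure Reg (φ : M →* MulAut A) (e : A) : Prop where
  ne : e ≠ 1
  reg : ∀ x : A, x ≠ 1 → ∃! m : M, φ m e = x

namespace Reg

variable {φ : M →* MulAut A} {e : A} (h : Reg φ e)

include h

open Classical in
/-- The element of `M` moving `e` to `x`. -/
noncomputable def delta (x : A) : M := if hx : x = 1 then 1 else (h.reg x hx).choose

lemma delta_spec {x : A} (hx : x ≠ 1) : φ (h.delta x) e = x := by
  unfold delta
  rw [dif_neg hx]
  exact (h.reg x hx).choose_spec.1

omit h in
lemma smul_ne_one (m : M) {x : A} (hx : x ≠ 1) : φ m x ≠ 1 := by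
  intro h1
  apply hx
  exact (map_eq_one_iff (φ m) (φ m).injective).1 h1

lemma delta_smul (m : M) : h.delta (φ m e) = m := by
  have hx : φ m e ≠ 1 := smul_ne_one m h.ne
  exact (h.reg _ hx).unique (h.delta_spec hx) rfl

open Classical in
/-- The multiplication. -/
noncomputable def mulA (x y : A) : A := if x = 1 then 1 else φ (h.delta x) y

lemma mulA_one_left (y : A) : h.mulA 1 y = 1 := by
  unfold mulA
  rw [if_pos rfl]

lemma mulA_of_ne {x : A} (hx : x ≠ 1) (y : A) : h.mulA x y = φ (h.delta x) y := by
  unfold mulA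
  rw [if_neg hx]

lemma mulA_smul (m : M) (y : A) : h.mulA (φ m e) y = φ m y := by
  rw [h.mulA_of_ne (smul_ne_one m h.ne), h.delta_smul]

lemma mulA_one_right (x : A) : h.mulA x 1 = 1 := by
  by_cases hx : x = 1
  · rw [hx, mulA_one_left]
  · rw [h.mulA_of_ne hx, map_one]

lemma exists_smul {x : A} (hx : x ≠ 1) : ∃ m : M, φ m e = x := ⟨_, h.delta_spec hx⟩

lemma mulA_comm (x y : A) : h.mulA x y = h.mulA y x := by
  by_cases hx : x = 1
  · rw [hx, mulA_one_left, mulA_one_right]
  by_cases hy : y = 1
  · rw [hy, mulA_one_left, mulA_one_right]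
  obtain ⟨m, rfl⟩ := h.exists_smul hx
  obtain ⟨n, rfl⟩ := h.exists_smul hy
  rw [mulA_smul, mulA_smul]
  rw [← MulAut.mul_apply, ← MulAut.mul_apply, ← map_mul, ← map_mul, mul_comm]

lemma mulA_assoc (x y z : A) : h.mulA (h.mulA x y) z = h.mulA x (h.mulA y z) := by
  by_cases hx : x = 1
  · rw [hx, mulA_one_left, mulA_one_left, mulA_one_left]
  by_cases hy : y = 1
  · rw [hy, mulA_one_right, mulA_one_left, mulA_one_right]
  obtain ⟨m, rfl⟩ := h.exists_smul hx
  obtain ⟨n, rfl⟩ := h.exists_smul hy
  rw [mulA_smul, mulA_smul, mulA_smul]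
  rw [← MulAut.mul_apply, ← map_mul, mulA_smul, map_mul, MulAut.mul_apply]

lemma mulA_distrib (x y z : A) : h.mulA x (y * z) = h.mulA x y * h.mulA x z := by
  by_cases hx : x = 1
  · rw [hx, mulA_one_left, mulA_one_left, mulA_one_left, one_mul]
  · rw [h.mulA_of_ne hx, h.mulA_of_ne hx, h.mulA_of_ne hx, map_mul]

lemma mulA_e_left (y : A) : h.mulA e y = y := by
  have := h.mulA_smul 1 y
  rwa [map_one, MulAut.one_apply, MulAut.one_apply] at this

lemma mulA_e_right (x : A) : h.mulA x e = x := by
  rw [mulA_comm, mulA_e_left]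

/-- The commutative ring. -/
@[reducible] noncomputable def commRing : CommRing (Additive A) :=
  { (inferInstance : AddCommGroup (Additive A)) with
    mul := fun x y => Additive.ofMul (h.mulA x.toMul y.toMul)
    one := Additive.ofMul e
    mul_assoc := fun x y z => congrArg Additive.ofMul (h.mulA_assoc x.toMul y.toMul z.toMul)
    one_mul := fun x => congrArg Additive.ofMul (h.mulA_e_left x.toMul)
    mul_one := fun x => congrArg Additive.ofMul (h.mulA_e_right x.toMul)
    mul_comm := fun x y => congrArg Additive.ofMul (h.mulA_comm x.toMul y.toMul)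
    zero_mul := fun x => congrArg Additive.ofMul (h.mulA_one_left x.toMul)
    mul_zero := fun x => congrArg Additive.ofMul (h.mulA_one_right x.toMul)
    left_distrib := fun x y z => congrArg Additive.ofMul (h.mulA_distrib x.toMul y.toMul z.toMul)
    right_distrib := fun x y z => by
      apply congrArg Additive.ofMul
      change h.mulA (x.toMul * y.toMul) z.toMul = h.mulA x.toMul z.toMul * h.mulA y.toMul z.toMul
      rw [h.mulA_comm, h.mulA_distrib, h.mulA_comm z.toMul, h.mulA_comm z.toMul] }

lemma isField : @IsField (Additive A) h.commRing.toSemiring := by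
  letI := h.commRing
  refine ⟨⟨1, 0, ?_⟩, mul_comm, ?_⟩
  · intro h1
    exact h.ne (congrArg Additive.toMul h1)
  · intro a ha
    have ha' : a.toMul ≠ 1 := fun h1 => ha (congrArg Additive.ofMul h1)
    obtain ⟨m, hm⟩ := h.exists_smul ha'
    refine ⟨Additive.ofMul (φ m⁻¹ e), ?_⟩
    apply congrArg Additive.ofMul
    change h.mulA a.toMul (φ m⁻¹ e) = e
    rw [← hm, mulA_smul, ← MulAut.mul_apply, ← map_mul, mul_inv_cancel, map_one, MulAut.one_apply]

/-- The field. -/
@[reducible] noncomputable def field : Field (Additive A) :=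
  letI := h.commRing
  h.isField.toField

lemma field_add (x y : Additive A) :
    @HAdd.hAdd _ _ _ (@instHAdd _ h.field.toAdd) x y = Additive.ofMul (x.toMul * y.toMul) := rfl

lemma field_mul (x y : Additive A) :
    @HMul.hMul _ _ _ (@instHMul _ h.field.toMul) x y = Additive.ofMul (h.mulA x.toMul y.toMul) := rfl

lemma field_one : @One.one _ h.field.toOne = Additive.ofMul e := rfl

lemma field_zero : @Zero.zero _ h.field.toZero = Additive.ofMul 1 := rfl

end Reg

end Cfsg.Agent.Lib.StrongEmb.FieldOf
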