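import Cfsg.Agent.Lib.Classical.SL2Sylow

/-!
# Recognizing `SL₂(K)` in characteristic two from its action on the projective line
-/

set_option autoImplicit false

open scoped MatrixGroups

namespace Cfsg.Agent.Lib.StrongEmb.Mobius

open OnePoint Cfsg.Agent.Lib.Classical.SL2Sylow

variable {K : Type*} [Field K] [DecidableEq K]

/-- The action of `SL₂(K)` on the projective line. -/
noncomputable def phi : SL(2, K) →* Equiv.Perm (OnePoint K) :=
  (MulAction.toPermHom (GL (Fin 2) K) (OnePoint K)).comp Matrix.SpecialLinearGroup.toGL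

lemma phi_apply (A : SL(2, K)) (x : OnePoint K) :
    phi A x = (Matrix.SpecialLinearGroup.toGL A : GL (Fin 2) K) • x := rfl

lemma phi_infty (A : SL(2, K)) :
    phi A (∞ : OnePoint K) = if (A : Matrix (Fin 2) (Fin 2) K) 1 0 = 0 then ∞ else
      ((A : Matrix (Fin 2) (Fin 2) K) 0 0 / (A : Matrix (Fin 2) (Fin 2) K) 1 0 : K) := by
  rw [phi_apply, smul_infty_eq_ite]
  rfl

lemma phi_coe (A : SL(2, K)) (k : K) :
    phi A (k : OnePoint K) =
      if (A : Matrix (Fin 2) (Fin 2) K) 1 0 * k + (A : Matrix (Fin 2) (Fin 2) K) 1 1 = 0 then ∞ else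
      (((A : Matrix (Fin 2) (Fin 2) K) 0 0 * k + (A : Matrix (Fin 2) (Fin 2) K) 0 1) /
        ((A : Matrix (Fin 2) (Fin 2) K) 1 0 * k + (A : Matrix (Fin 2) (Fin 2) K) 1 1) : K) := by
  rw [phi_apply, smul_some_eq_ite]
  rfl

/-- In characteristic two the action of `SL₂` is faithful. -/
theorem phi_injective (h2 : (2 : K) = 0) : Function.Injective (phi : SL(2, K) →* _) := by
  rw [injective_iff_map_eq_one]
  intro A hA
  have h1 : ∀ x : OnePoint K, phi A x = x := fun x => by rw [hA]; rfl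
  have hinf := h1 ∞
  rw [phi_infty] at hinf
  have h10 : (A : Matrix (Fin 2) (Fin 2) K) 1 0 = 0 := by
    by_contra h
    rw [if_neg h] at hinf
    exact coe_ne_infty _ hinf
  have h0 := h1 ((0 : K) : OnePoint K)
  rw [phi_coe, h10] at h0
  simp only [mul_zero, zero_add, add_zero] at h0
  have h11 : (A : Matrix (Fin 2) (Fin 2) K) 1 1 ≠ 0 := by
    intro h
    rw [if_pos h] at h0
    exact (coe_ne_infty _ h0.symm)
  rw [if_neg h11] at h0
  have h01 : (A : Matrix (Fin 2) (Fin 2) K) 0 1 = 0 := by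
    have := OnePoint.coe_eq_coe.1 h0
    rw [div_eq_zero_iff] at this
    rcases this with h | h
    · exact h
    · exact absurd h h11
  have h3 := h1 ((1 : K) : OnePoint K)
  rw [phi_coe, h10, h01] at h3
  simp only [mul_one, zero_add, add_zero] at h3
  rw [if_neg h11] at h3
  have h00 : (A : Matrix (Fin 2) (Fin 2) K) 0 0 = (A : Matrix (Fin 2) (Fin 2) K) 1 1 := by
    have := OnePoint.coe_eq_coe.1 h3
    rwa [div_eq_one_iff_eq h11] at this
  have hdet := A.2
  rw [Matrix.det_fin_two, h10, h01, h00] at hdet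
  have h4 : ((A : Matrix (Fin 2) (Fin 2) K) 1 1 - 1) * ((A : Matrix (Fin 2) (Fin 2) K) 1 1 - 1) = 0 := by
    have h5 : (A : Matrix (Fin 2) (Fin 2) K) 1 1 * (A : Matrix (Fin 2) (Fin 2) K) 1 1 = 1 := by
      simpa using hdet
    linear_combination h5 - (A : Matrix (Fin 2) (Fin 2) K) 1 1 * h2 + h2
  have h5 : (A : Matrix (Fin 2) (Fin 2) K) 1 1 = 1 := by
    have := mul_self_eq_zero.1 h4
    exact sub_eq_zero.1 this
  apply Subtype.ext
  ext i j
  fin_cases i <;> fin_cases j
  · simp [h00, h5]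
  · simp [h01]
  · simp [h10]
  · simp [h5]

lemma phi_upS_infty (a : K) : phi (upS a) (∞ : OnePoint K) = ∞ := by
  rw [phi_infty]
  simp

lemma phi_upS_coe (a b : K) : phi (upS a) (b : OnePoint K) = ((b + a : K) : OnePoint K) := by
  rw [phi_coe]
  simp

/-- The diagonal element. -/
def diagS (s : K) (hs : s ≠ 0) : SL(2, K) := ⟨!![s, 0; 0, s⁻¹], by simp [Matrix.det_fin_two, hs]⟩

@[simp] lemma diagS_coe (s : K) (hs : s ≠ 0) :
    ((diagS s hs : SL(2, K)) : Matrix (Fin 2) (Fin 2) K) = !![s, 0; 0, s⁻¹] := rfl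

lemma phi_diag_infty (s : K) (hs : s ≠ 0) : phi (diagS s hs) (∞ : OnePoint K) = ∞ := by
  rw [phi_infty]
  simp

lemma phi_diag_coe (s : K) (hs : s ≠ 0) (b : K) :
    phi (diagS s hs) (b : OnePoint K) = ((s * s * b : K) : OnePoint K) := by
  rw [phi_coe]
  simp only [diagS_coe]
  simp [hs]
  field_simp

/-- The antidiagonal element. -/
def antiS (c s : K) (h : - (c * s * s) = 1) : SL(2, K) :=
  ⟨!![0, c * s; s, 0], by simp [Matrix.det_fin_two]; linear_combination h⟩

@[simp] lemma antiS_coe (c s : K) (h : - (c * s * s) = 1) :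
    ((antiS c s h : SL(2, K)) : Matrix (Fin 2) (Fin 2) K) = !![0, c * s; s, 0] := rfl

lemma phi_anti_infty (c s : K) (h : - (c * s * s) = 1) :
    phi (antiS c s h) (∞ : OnePoint K) = ((0 : K) : OnePoint K) := by
  have hs : s ≠ 0 := by
    rintro rfl
    simp at h
  rw [phi_infty]
  simp [hs]

lemma phi_anti_zero (c s : K) (h : - (c * s * s) = 1) :
    phi (antiS c s h) ((0 : K) : OnePoint K) = ∞ := by
  rw [phi_coe]
  simp

lemma phi_anti_coe (c s : K) (h : - (c * s * s) = 1) {b : K} (hb : b ≠ 0) :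
    phi (antiS c s h) (b : OnePoint K) = ((c / b : K) : OnePoint K) := by
  have hs : s ≠ 0 := by
    rintro rfl
    simp at h
  rw [phi_coe]
  simp only [antiS_coe]
  simp [hs, hb]
  field_simp

section Main

variable {G : Type*} [Group G] [Fintype K]

/-- The data from which `G ≃* SL₂(K)` follows. -/
structure Data (H D : Subgroup G) (u : G) (ψ : K → G) : Prop where
  two : (2 : K) = 0
  hu : u ∉ H
  uu : u * u = 1
  add : ∀ a b, ψ (a + b) = ψ a * ψ b
  memH : ∀ a, ψ a ∈ H
  reg0 : ∀ a, ψ a • (QuotientGroup.mk u : G ⧸ H) = QuotientGroup.mk u → a = 0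
  surj : ∀ z : G ⧸ H, z ≠ QuotientGroup.mk 1 → ∃ a, ψ a • (QuotientGroup.mk u : G ⧸ H) = z
  DH : D ≤ H
  Dfix : ∀ d ∈ D, d • (QuotientGroup.mk u : G ⧸ H) = QuotientGroup.mk u
  dt : ∀ h ∈ H, ∃ d ∈ D, ∃ a, h = d * ψ a
  dleft : ∀ d ∈ D, ∃ a, a ≠ 0 ∧ ∀ b, d * ψ b * d⁻¹ = ψ (a * b)
  dright : ∀ a, a ≠ 0 → ∃ d ∈ D, ∀ b, d * ψ b * d⁻¹ = ψ (a * b)
  inv : ∀ d ∈ D, u * d * u⁻¹ = d⁻¹
  faithful : ∀ g : G, (∀ x : G ⧸ H, g • x = x) → g = 1
  cardH : Nat.card H = Fintype.card K * (Fintype.card K - 1)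

/-- The identification of the projective line with the cosets. -/
noncomputable def iota (H : Subgroup G) (u : G) (ψ : K → G) (x : OnePoint K) : G ⧸ H :=
  OnePoint.elim x (QuotientGroup.mk 1) (fun a => ψ a • (QuotientGroup.mk u : G ⧸ H))

@[simp] lemma iota_infty (H : Subgroup G) (u : G) (ψ : K → G) :
    iota H u ψ (∞ : OnePoint K) = QuotientGroup.mk 1 := rfl

@[simp] lemma iota_coe (H : Subgroup G) (u : G) (ψ : K → G) (a : K) :
    iota H u ψ (a : OnePoint K) = ψ a • (QuotientGroup.mk u : G ⧸ H) := rfl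

namespace Data

variable {H D : Subgroup G} {u : G} {ψ : K → G} (h : Data H D u ψ)

include h

lemma psi_zero : ψ 0 = 1 := by
  have := h.add 0 0
  rw [add_zero] at this
  exact (mul_eq_left.1 this.symm)

lemma smul_mk_one {x : G} (hx : x ∈ H) : x • (QuotientGroup.mk 1 : G ⧸ H) = QuotientGroup.mk 1 := by
  change (QuotientGroup.mk (x * 1) : G ⧸ H) = QuotientGroup.mk 1
  rw [mul_one, QuotientGroup.eq]
  simpa using H.inv_mem hx

lemma mk_u_ne : (QuotientGroup.mk u : G ⧸ H) ≠ QuotientGroup.mk 1 := by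
  intro h1
  apply h.hu
  have := QuotientGroup.eq.1 h1
  simpa using H.inv_mem this

lemma smul_mk_u_ne (a : K) : ψ a • (QuotientGroup.mk u : G ⧸ H) ≠ QuotientGroup.mk 1 := by
  intro h1
  have h2 : (ψ a)⁻¹ • (ψ a • (QuotientGroup.mk u : G ⧸ H)) = (ψ a)⁻¹ • QuotientGroup.mk 1 := by rw [h1]
  rw [inv_smul_smul, h.smul_mk_one (H.inv_mem (h.memH a))] at h2
  exact h.mk_u_ne h2

lemma iota_injective : Function.Injective (iota H u ψ : OnePoint K → G ⧸ H) := by
  intro x y hxy
  induction x using OnePoint.rec with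
  | infty =>
    induction y using OnePoint.rec with
    | infty => rfl
    | coe b => exact absurd hxy.symm (h.smul_mk_u_ne b)
  | coe a =>
    induction y using OnePoint.rec with
    | infty => exact absurd hxy (h.smul_mk_u_ne a)
    | coe b =>
      have h1 : ψ a • (QuotientGroup.mk u : G ⧸ H) = ψ b • (QuotientGroup.mk u : G ⧸ H) := hxy
      have h2 : ψ (a - b) • (QuotientGroup.mk u : G ⧸ H) = QuotientGroup.mk u := by
        have e1 : ψ a = ψ (a - b) * ψ b := by rw [← h.add, sub_add_cancel]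
        have e2 : ψ (a - b) * ψ b = ψ b * ψ (a - b) := by
          rw [← h.add, ← h.add, add_comm]
        rw [e1, e2, mul_smul] at h1
        exact smul_left_cancel _ h1
      have h3 := h.reg0 _ h2
      rw [sub_eq_zero.1 h3]

lemma iota_surjective : Function.Surjective (iota H u ψ : OnePoint K → G ⧸ H) := by
  intro z
  by_cases hz : z = QuotientGroup.mk 1
  · exact ⟨∞, hz.symm⟩
  · obtain ⟨a, ha⟩ := h.surj z hz
    exact ⟨(a : K), ha⟩

/-- `iota` as an equivalence. -/
noncomputable def iotaEquiv : OnePoint K ≃ G ⧸ H :=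
  Equiv.ofBijective _ ⟨h.iota_injective, h.iota_surjective⟩

lemma iotaEquiv_apply (x : OnePoint K) : h.iotaEquiv x = iota H u ψ x := rfl

/-- The action of `G` on the line. -/
noncomputable def rho : G →* Equiv.Perm (OnePoint K) :=
  (h.iotaEquiv.symm.permCongrHom).toMonoidHom.comp (MulAction.toPermHom G (G ⧸ H))

lemma rho_apply (g : G) (x : OnePoint K) : h.rho g x = h.iotaEquiv.symm (g • iota H u ψ x) := rfl

lemma rho_injective : Function.Injective (h.rho) := by
  rw [injective_iff_map_eq_one]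
  intro g hg
  apply h.faithful
  intro x
  obtain ⟨y, rfl⟩ := h.iota_surjective x
  have h1 : h.rho g y = y := by rw [hg]; rfl
  rw [rho_apply] at h1
  have h2 := congrArg h.iotaEquiv h1
  rw [Equiv.apply_symm_apply, iotaEquiv_apply] at h2
  exact h2

/-- `g` acts as the matrix `A`. -/
def Good (H : Subgroup G) (u : G) (ψ : K → G) (g : G) (A : SL(2, K)) : Prop :=
  ∀ x : OnePoint K, g • iota H u ψ x = iota H u ψ (phi A x)

omit h [Fintype K] in
lemma Good.mul {g₁ g₂ : G} {A₁ A₂ : SL(2, K)} (h₁ : Good H u ψ g₁ A₁) (h₂ : Good H u ψ g₂ A₂) :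
    Good H u ψ (g₁ * g₂) (A₁ * A₂) := by
  intro x
  rw [mul_smul, h₂ x, h₁, map_mul]
  rfl

lemma good_psi (a : K) : Good H u ψ (ψ a) (upS a) := by
  intro x
  induction x using OnePoint.rec with
  | infty =>
    rw [phi_upS_infty, iota_infty, h.smul_mk_one (h.memH a)]
  | coe b =>
    rw [phi_upS_coe, iota_coe, iota_coe, add_comm, h.add, mul_smul]

omit h [Fintype K] [DecidableEq K] in
lemma conj_smul_mk {d : G} (hfix : d • (QuotientGroup.mk u : G ⧸ H) = QuotientGroup.mk u) (t : G) :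
    d • (t • (QuotientGroup.mk u : G ⧸ H)) = (d * t * d⁻¹) • (QuotientGroup.mk u : G ⧸ H) := by
  rw [mul_smul, mul_smul, inv_smul_eq_iff.2 hfix.symm]

lemma good_diag {d : G} (hd : d ∈ D) {a s : K} (hs : a = s * s) (ha : a ≠ 0)
    (hb : ∀ b, d * ψ b * d⁻¹ = ψ (a * b)) :
    ∃ A : SL(2, K), Good H u ψ d A := by
  have hs0 : s ≠ 0 := by
    rintro rfl
    apply ha
    rw [hs, mul_zero]
  refine ⟨diagS s hs0, ?_⟩
  intro x
  induction x using OnePoint.rec with
  | infty =>
    rw [phi_diag_infty, iota_infty, h.smul_mk_one (h.DH hd)]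
  | coe b =>
    rw [phi_diag_coe, iota_coe, iota_coe, conj_smul_mk (h.Dfix d hd), hb, hs]

lemma exists_sqrt (a : K) : ∃ s : K, a = s * s := by
  haveI : CharP K 2 := CharTwo.of_one_ne_zero_of_two_eq_zero one_ne_zero h.two
  have h1 : ringChar K = 2 := ringChar.eq K 2
  exact FiniteField.isSquare_of_char_two h1 a

lemma good_dd {d : G} (hd : d ∈ D) : ∃ A : SL(2, K), Good H u ψ d A := by
  obtain ⟨a, ha, hb⟩ := h.dleft d hd
  obtain ⟨s, hs⟩ := h.exists_sqrt a
  exact h.good_diag hd hs ha hb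

lemma u_sq_smul : u • (QuotientGroup.mk u : G ⧸ H) = QuotientGroup.mk 1 := by
  change (QuotientGroup.mk (u * u) : G ⧸ H) = _
  rw [h.uu]

lemma u_smul_one : u • (QuotientGroup.mk 1 : G ⧸ H) = QuotientGroup.mk u := by
  change (QuotientGroup.mk (u * 1) : G ⧸ H) = _
  rw [mul_one]

lemma u_u_smul (z : G ⧸ H) : u • (u • z) = z := by
  rw [← mul_smul, h.uu, one_smul]

lemma good_u : ∃ A : SL(2, K), Good H u ψ u A := by
  -- the image of the point `1`
  have hne : u • (ψ 1 • (QuotientGroup.mk u : G ⧸ H)) ≠ QuotientGroup.mk 1 := by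
    intro h1
    have h2 : ψ 1 • (QuotientGroup.mk u : G ⧸ H) = QuotientGroup.mk u := by
      have h3 := congrArg (fun z => u • z) h1
      simp only [h.u_u_smul, h.u_smul_one] at h3
      exact h3
    exact one_ne_zero (h.reg0 _ h2)
  obtain ⟨c, hc⟩ := h.surj _ hne
  have hc0 : c ≠ 0 := by
    rintro rfl
    rw [h.psi_zero, one_smul] at hc
    have h3 := congrArg (fun z => u • z) hc
    simp only [h.u_u_smul, h.u_sq_smul] at h3
    exact h.smul_mk_u_ne 1 h3.symm
  obtain ⟨s, hs⟩ := h.exists_sqrt c⁻¹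
  have hdet : - (c * s * s) = 1 := by
    have h2 := h.two
    have h3 : c * s * s = 1 := by
      rw [mul_assoc, ← hs, mul_inv_cancel₀ hc0]
    rw [h3]
    linear_combination -h2
  refine ⟨antiS c s hdet, ?_⟩
  intro x
  induction x using OnePoint.rec with
  | infty =>
    rw [phi_anti_infty, iota_infty, iota_coe, h.psi_zero, one_smul, h.u_smul_one]
  | coe b =>
    by_cases hb : b = 0
    · subst hb
      rw [phi_anti_zero, iota_coe, iota_infty, h.psi_zero, one_smul, h.u_sq_smul]
    · rw [phi_anti_coe c s hdet hb, iota_coe, iota_coe]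
      obtain ⟨d, hd, hdb⟩ := h.dright b hb
      have h1 : ψ b = d * ψ 1 * d⁻¹ := by rw [hdb, mul_one]
      rw [h1, ← conj_smul_mk (h.Dfix d hd)]
      rw [← mul_smul]
      have h2 : u * d = d⁻¹ * u := by
        have := h.inv d hd
        rw [← this]
        group
      rw [h2, mul_smul, ← hc]
      have hfix' : d⁻¹ • (QuotientGroup.mk u : G ⧸ H) = QuotientGroup.mk u :=
        inv_smul_eq_iff.2 (h.Dfix d hd).symm
      rw [conj_smul_mk hfix', inv_inv]
      congr 1
      have h3 := hdb (c / b)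
      rw [show b * (c / b) = c by field_simp] at h3
      rw [← h3]
      group

/-- Every element of `G` acts as a matrix. -/
theorem exists_good (g : G) : ∃ A : SL(2, K), Good H u ψ g A := by
  have hH : ∀ x ∈ H, ∃ A : SL(2, K), Good H u ψ x A := by
    intro x hx
    obtain ⟨d, hd, a, rfl⟩ := h.dt x hx
    obtain ⟨A, hA⟩ := h.good_dd hd
    exact ⟨_, hA.mul (h.good_psi a)⟩
  by_cases hg : g ∈ H
  · exact hH g hg
  · have hne : (QuotientGroup.mk g : G ⧸ H) ≠ QuotientGroup.mk 1 := by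
      intro h1
      apply hg
      have := QuotientGroup.eq.1 h1
      simpa using H.inv_mem this
    obtain ⟨a, ha⟩ := h.surj _ hne
    have h2 : (ψ a * u)⁻¹ * g ∈ H := by
      have h3 : (QuotientGroup.mk (ψ a * u) : G ⧸ H) = QuotientGroup.mk g := ha
      exact QuotientGroup.eq.1 h3
    obtain ⟨A₁, hA₁⟩ := hH _ h2
    obtain ⟨A₂, hA₂⟩ := h.good_u
    have := ((h.good_psi a).mul hA₂).mul hA₁
    have e : ψ a * u * ((ψ a * u)⁻¹ * g) = g := by group
    rw [e] at this
    exact ⟨_, this⟩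

/-- The order of `G`. -/
theorem card_eq : Nat.card G = Fintype.card K * ((Fintype.card K - 1) * (Fintype.card K + 1)) := by
  haveI : Finite (G ⧸ H) := Finite.of_equiv _ h.iotaEquiv
  have h1 := Subgroup.card_eq_card_quotient_mul_card_subgroup H
  have h2 : Nat.card (G ⧸ H) = Fintype.card K + 1 := by
    rw [← Nat.card_congr h.iotaEquiv]
    have : Nat.card (Option K) = Fintype.card K + 1 := by
      rw [Nat.card_eq_fintype_card, Fintype.card_option]
    exact this
  rw [h1, h2, h.cardH]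
  ring

/-- The recognition theorem. -/
theorem nonempty_equiv : Nonempty (G ≃* SL(2, K)) := by
  classical
  haveI : Finite G := by
    apply Nat.finite_of_card_ne_zero
    rw [h.card_eq]
    have h1 : 1 < Fintype.card K := Fintype.one_lt_card
    have : Fintype.card K - 1 ≠ 0 := by omega
    positivity
  have hle : h.rho.range ≤ (phi : SL(2, K) →* _).range := by
    rintro _ ⟨g, rfl⟩
    obtain ⟨A, hA⟩ := h.exists_good g
    refine ⟨A, ?_⟩
    ext x
    rw [rho_apply, hA x, ← h.iotaEquiv_apply, Equiv.symm_apply_apply]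
  have hinj := phi_injective (K := K) h.two
  have heq : h.rho.range = (phi : SL(2, K) →* _).range := by
    apply Subgroup.eq_of_le_of_card_ge hle
    rw [← Nat.card_congr (MonoidHom.ofInjective h.rho_injective).toEquiv,
      ← Nat.card_congr (MonoidHom.ofInjective hinj).toEquiv, h.card_eq, card_SL2]
  exact ⟨(MonoidHom.ofInjective h.rho_injective).trans
    ((MulEquiv.subgroupCongr heq).trans (MonoidHom.ofInjective hinj).symm)⟩

end Data

end Main

end Cfsg.Agent.Lib.StrongEmb.Mobius
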