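import Cfsg.Agent.Lib.StrongEmb.ElemCent
import Mathlib.GroupTheory.Complement

/-!
# Involution centralizers elementary abelian: two point stabilizers

Continuing `ElemCent`: with `H = N_G(T)` and `u ∉ H` an involution, `D = H ∩ uHu⁻¹`:
`u` inverts `D`, `D` is abelian and a complement to `T` in `H`, `|H| = |T| (|T| - 1)`, and an element
fixing three cosets of `H` is the identity.
-/

set_option autoImplicit false
set_option linter.unusedSectionVars false

namespace Cfsg.Agent.Lib.StrongEmb.ElemCent2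

open Cfsg
open Cfsg.Agent.Lib.Involutions.Dihedral
open Cfsg.Agent.Lib.StrongEmb.Basic
open Cfsg.Agent.Lib.StrongEmb.ElemCent

variable {G : Type*} [Group G] [Finite G]

section General

variable {H : Subgroup G}

theorem exists_swap_pt (hH : IsStronglyEmbedded H) {x y : G ⧸ H} (hxy : x ≠ y) :
    ∃ i : G, orderOf i = 2 ∧ i • x = y := by
  have h1 := card_swap hH hxy
  obtain ⟨t, htH, ht⟩ := exists_involution hH
  have : Nonempty {t : G // orderOf t = 2 ∧ t ∈ H} := ⟨⟨t, ht, htH⟩⟩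
  have h2 : Nat.card {i : G // orderOf i = 2 ∧ i • x = y} ≠ 0 := by
    rw [h1]; exact Nat.card_pos.ne'
  obtain ⟨⟨i, hi⟩⟩ := (Nat.card_ne_zero.mp h2).1
  exact ⟨i, hi⟩

theorem eq_one_of_sq_of_odd {c : G} (h1 : c ^ 2 = 1) (h2 : Odd (orderOf c)) : c = 1 := by
  have h3 : orderOf c ∣ 2 := orderOf_dvd_of_pow_eq_one h1
  rcases (Nat.dvd_prime Nat.prime_two).mp h3 with h | h
  · exact orderOf_eq_one_iff.mp h
  · rw [h] at h2; exact absurd h2 (by decide)

theorem eq_one_of_commute_of_fix_two (hC : ElemCentHyp G) (hH : IsStronglyEmbedded H)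
    {x y : G ⧸ H} (hxy : x ≠ y) {i c : G} (hi : orderOf i = 2) (hc : c * i = i * c)
    (hcx : c • x = x) (hcy : c • y = y) : c = 1 :=
  eq_one_of_sq_of_odd ((hC i hi).2 c (mem_centralizer_singleton.mpr hc))
    (odd_orderOf_of_fix_two hH hxy hcx hcy)

/-- An involution swapping `x`, `y` inverts each element fixing `x` and `y`. -/
theorem inverts_of_fix_two (hC : ElemCentHyp G) (hH : IsStronglyEmbedded H)
    {x y : G ⧸ H} (hxy : x ≠ y) {i d : G} (hi : orderOf i = 2) (hix : i • x = y)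
    (hdx : d • x = x) (hdy : d • y = y) : i * d * i⁻¹ = d⁻¹ := by
  have hi2 := sq_of_orderOf_two hi
  have hii : i * i = 1 := mul_self_of_sq hi2
  have hinv : i⁻¹ = i := inv_eq_of_sq hi2
  have hiy : i • y = x := by rw [← hix, smul_smul, hii, one_smul]
  let D : Subgroup G := MulAction.stabilizer G x ⊓ MulAction.stabilizer G y
  have hmemD : ∀ e : G, e ∈ D ↔ e • x = x ∧ e • y = y := by
    intro e
    exact Subgroup.mem_inf
  have hconj : ∀ e ∈ D, i * e * i⁻¹ ∈ D := by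
    intro e he
    obtain ⟨h1, h2⟩ := (hmemD e).mp he
    refine (hmemD _).mpr ⟨?_, ?_⟩
    · rw [hinv, mul_smul, mul_smul, hix, h2, hiy]
    · rw [hinv, mul_smul, mul_smul, hiy, h1, hix]
  let f : D → D := fun e => ⟨e.1⁻¹ * (i * e.1 * i⁻¹), D.mul_mem (D.inv_mem e.2) (hconj _ e.2)⟩
  have hf : Function.Injective f := by
    rintro ⟨e, he⟩ ⟨e', he'⟩ h
    have h1 : e⁻¹ * (i * e * i⁻¹) = e'⁻¹ * (i * e' * i⁻¹) := congrArg Subtype.val h
    have h2 : (e' * e⁻¹) * i = i * (e' * e⁻¹) := by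
      have h3 : e⁻¹ * i * e = e'⁻¹ * i * e' := by
        have := congrArg (fun w => w * i) h1
        simpa [mul_assoc, hinv, hii] using this
      calc (e' * e⁻¹) * i = e' * (e⁻¹ * i * e) * e⁻¹ := by group
        _ = e' * (e'⁻¹ * i * e') * e⁻¹ := by rw [h3]
        _ = i * (e' * e⁻¹) := by group
    have hmem : e' * e⁻¹ ∈ D := D.mul_mem he' (D.inv_mem he)
    obtain ⟨h4, h5⟩ := (hmemD _).mp hmem
    have h6 := eq_one_of_commute_of_fix_two hC hH hxy hi h2 h4 h5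
    apply Subtype.ext
    have : e' = e := by
      have := mul_inv_eq_one.mp h6
      exact this
    exact this.symm
  have hsurj := Finite.injective_iff_surjective.mp hf
  obtain ⟨⟨e, he⟩, h⟩ := hsurj ⟨d, (hmemD d).mpr ⟨hdx, hdy⟩⟩
  have h1 : d = e⁻¹ * (i * e * i⁻¹) := (congrArg Subtype.val h).symm
  rw [h1, hinv]
  calc i * (e⁻¹ * (i * e * i)) * i = i * e⁻¹ * i * e * (i * i) := by group
    _ = i * e⁻¹ * i * e := by rw [hii, mul_one]
    _ = (e⁻¹ * (i * e * i))⁻¹ := by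
      rw [mul_inv_rev, mul_inv_rev, mul_inv_rev, hinv, inv_inv]
      group

end General

section Main

variable (hC : ElemCentHyp G) (T : Sylow 2 G)
  (hnc : ¬ IsCyclic (T : Subgroup G)) (hnn : ¬ (T : Subgroup G).Normal)

include hnc in
theorem sylow_ne_bot : (T : Subgroup G) ≠ ⊥ := by
  intro h
  apply hnc
  rw [h]
  infer_instance

theorem mem_normalizer_of_smul_eq {g : G} (h : ((g • T : Sylow 2 G) : Subgroup G) = T) :
    g ∈ Subgroup.normalizer ((T : Subgroup G) : Set G) := by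
  rw [Subgroup.mem_normalizer_iff]
  intro x
  constructor
  · intro hx
    have : g * x * g⁻¹ ∈ ((g • T : Sylow 2 G) : Subgroup G) := by
      rw [conj_sylow_mem_iff]
      convert hx using 1
      group
    rwa [h] at this
  · intro hx
    have hx' : g * x * g⁻¹ ∈ ((g • T : Sylow 2 G) : Subgroup G) := by rw [h]; exact hx
    have := (conj_sylow_mem_iff T g _).mp hx'
    convert this using 1
    group

include hC hnc hnn in
theorem exists_involution_outside :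
    ∃ u : G, orderOf u = 2 ∧ u ∉ Subgroup.normalizer ((T : Subgroup G) : Set G) := by
  have hSE := isStronglyEmbedded_normalizer hC T hnc hnn
  have hg : ∃ g : G, g ∉ Subgroup.normalizer ((T : Subgroup G) : Set G) := by
    by_contra hall
    simp only [not_exists, not_not] at hall
    exact hSE.1 (eq_top_iff.mpr (fun g _ => hall g))
  obtain ⟨g, hg⟩ := hg
  obtain ⟨z, hzT, hz, -⟩ := even_card_sylow_of_ne_bot T (sylow_ne_bot T hnc)
  refine ⟨g * z * g⁻¹, by rw [orderOf_conj', hz], ?_⟩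
  intro hmem
  have hord : orderOf (g * z * g⁻¹) = 2 := by rw [orderOf_conj', hz]
  have h1 := involution_mem_of_mem_normalizer T hord hmem
  have h2 : g * z * g⁻¹ ∈ ((g • T : Sylow 2 G) : Subgroup G) := by
    rw [conj_sylow_mem_iff]
    convert hzT using 1
    group
  have h3 := centralizer_eq hC T hord h1
  have h4 := centralizer_eq hC (g • T) hord h2
  exact hg (mem_normalizer_of_smul_eq T (by rw [← h4, h3]))

/-- Membership in the two point stabilizer `H ∩ uHu⁻¹`. -/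
theorem mem_D_iff {H : Subgroup G} {u d : G} :
    d ∈ H ⊓ H.map (MulAut.conj u).toMonoidHom ↔
      d • (QuotientGroup.mk 1 : G ⧸ H) = QuotientGroup.mk 1 ∧
        d • (QuotientGroup.mk u : G ⧸ H) = QuotientGroup.mk u := by
  rw [Subgroup.mem_inf, mem_map_conj_iff, smul_mk_eq_mk_iff, smul_mk_eq_mk_iff]
  simp

theorem mk_one_ne_mk {H : Subgroup G} {u : G} (huH : u ∉ H) :
    (QuotientGroup.mk 1 : G ⧸ H) ≠ QuotientGroup.mk u := by
  intro h
  have := (mk_eq_mk_iff (H := H) 1 u).mp h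
  apply huH
  simpa using this

/-- The normalizer of `T`. -/
abbrev Nm (T : Sylow 2 G) : Subgroup G := Subgroup.normalizer ((T : Subgroup G) : Set G)

/-- The two point stabilizer. -/
abbrev Dd (T : Sylow 2 G) (u : G) : Subgroup G := Nm T ⊓ (Nm T).map (MulAut.conj u).toMonoidHom

section WithU

variable {u : G} (hu : orderOf u = 2)
  (huH : u ∉ Nm T)

include hC hnc hnn hu huH in
theorem D_inverted {d : G} (hd : d ∈ Dd T u) : u * d * u⁻¹ = d⁻¹ := by
  have hSE := isStronglyEmbedded_normalizer hC T hnc hnn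
  obtain ⟨h1, h2⟩ := mem_D_iff.mp hd
  refine inverts_of_fix_two hC hSE (mk_one_ne_mk huH) hu ?_ h1 h2
  change (QuotientGroup.mk (u * 1) : G ⧸ Nm T) = QuotientGroup.mk u
  rw [mul_one]

include hC hnc hnn hu huH in
theorem D_comm {d e : G} (hd : d ∈ Dd T u) (he : e ∈ Dd T u) : d * e = e * d := by
  have h1 := D_inverted hC T hnc hnn hu huH hd
  have h2 := D_inverted hC T hnc hnn hu huH he
  have h3 := D_inverted hC T hnc hnn hu huH ((Dd T u).mul_mem hd he)
  have h4 : u * (d * e) * u⁻¹ = (u * d * u⁻¹) * (u * e * u⁻¹) := by group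
  rw [h4, h1, h2, mul_inv_rev] at h3
  calc d * e = (e⁻¹ * d⁻¹)⁻¹ := by group
    _ = (d⁻¹ * e⁻¹)⁻¹ := by rw [h3]
    _ = e * d := by group

include hC hnc hnn huH in
theorem D_inf_T {d : G} (hd : d ∈ Dd T u) (hdT : d ∈ (T : Subgroup G)) : d = 1 := by
  have hSE := isStronglyEmbedded_normalizer hC T hnc hnn
  have hodd := odd_orderOf_of_mem_inf hSE huH hd
  have h2 := (sylow_structure hC T (sylow_ne_bot T hnc)).2 d hdT
  exact eq_one_of_sq_of_odd h2 hodd

include hC hnc hnn hu huH in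
/-- Each element of `N` is in `D T`. -/
theorem exists_dt {h : G} (hh : h ∈ Nm T) : ∃ d ∈ Dd T u, ∃ t ∈ (T : Subgroup G), h = d * t := by
  have hSE := isStronglyEmbedded_normalizer hC T hnc hnn
  obtain ⟨z, hzT, hz, -⟩ := even_card_sylow_of_ne_bot T (sylow_ne_bot T hnc)
  have hzN : z ∈ Nm T := Subgroup.le_normalizer hzT
  have h1 : h * z * h⁻¹ ∈ Nm T := (Nm T).mul_mem ((Nm T).mul_mem hh hzN) ((Nm T).inv_mem hh)
  have h2 : orderOf (h * z * h⁻¹) = 2 := by rw [orderOf_conj', hz]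
  obtain ⟨d, hd, hdz⟩ := exists_conj_mem_inf hSE hu huH hz hzN h2 h1
  refine ⟨d, hd, d⁻¹ * h, ?_, by group⟩
  rw [← centralizer_eq hC T hz hzT, mem_centralizer_singleton]
  have h3 : d * z * d⁻¹ * d = h * z * h⁻¹ * d := by rw [hdz]
  have h4 : d * z = h * z * h⁻¹ * d := by simpa using h3
  calc d⁻¹ * h * z = d⁻¹ * (h * z * h⁻¹ * d) * (d⁻¹ * h) := by group
    _ = d⁻¹ * (d * z) * (d⁻¹ * h) := by rw [h4]
    _ = z * (d⁻¹ * h) := by group

include hC hnc hnn hu huH in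
theorem comm_mod_T {g h : G} (hg : g ∈ Nm T) (hh : h ∈ Nm T) :
    g * h * g⁻¹ * h⁻¹ ∈ (T : Subgroup G) := by
  obtain ⟨d₁, hd₁, t₁, ht₁, rfl⟩ := exists_dt hC T hnc hnn hu huH hg
  obtain ⟨d₂, hd₂, t₂, ht₂, rfl⟩ := exists_dt hC T hnc hnn hu huH hh
  have hd₁N : d₁ ∈ Nm T := hd₁.1
  have hd₂N : d₂ ∈ Nm T := hd₂.1
  have hconj : ∀ a ∈ Nm T, ∀ t ∈ (T : Subgroup G), a * t * a⁻¹ ∈ (T : Subgroup G) := by
    intro a ha t ht
    exact (Subgroup.mem_normalizer_iff.mp ha t).mp ht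
  have hcomm : d₁ * d₂ = d₂ * d₁ := D_comm hC T hnc hnn hu huH hd₁ hd₂
  have a1 : d₂⁻¹ * t₁ * d₂ ∈ (T : Subgroup G) := by
    have := hconj d₂⁻¹ ((Nm T).inv_mem hd₂N) t₁ ht₁
    simpa using this
  have a2 : d₁⁻¹ * t₂ * d₁ ∈ (T : Subgroup G) := by
    have := hconj d₁⁻¹ ((Nm T).inv_mem hd₁N) t₂ ht₂
    simpa using this
  have hgh : d₁ * t₁ * (d₂ * t₂) = (d₁ * d₂) * ((d₂⁻¹ * t₁ * d₂) * t₂) := by group
  have hhg : d₂ * t₂ * (d₁ * t₁) = (d₁ * d₂) * ((d₁⁻¹ * t₂ * d₁) * t₁) := by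
    rw [hcomm]; group
  have key : d₁ * t₁ * (d₂ * t₂) * (d₁ * t₁)⁻¹ * (d₂ * t₂)⁻¹ =
      (d₁ * d₂) * (((d₂⁻¹ * t₁ * d₂) * t₂) * ((d₁⁻¹ * t₂ * d₁) * t₁)⁻¹) * (d₁ * d₂)⁻¹ := by
    have : d₁ * t₁ * (d₂ * t₂) * (d₁ * t₁)⁻¹ * (d₂ * t₂)⁻¹ =
        (d₁ * t₁ * (d₂ * t₂)) * (d₂ * t₂ * (d₁ * t₁))⁻¹ := by group
    rw [this, hgh, hhg]
    group
  rw [key]
  apply hconj _ ((Nm T).mul_mem hd₁N hd₂N)
  exact (T : Subgroup G).mul_mem ((T : Subgroup G).mul_mem a1 ht₂)
    ((T : Subgroup G).inv_mem ((T : Subgroup G).mul_mem a2 ht₁))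

end WithU

include hC hnc hnn in
/-- **An element fixing three distinct cosets is trivial.** -/
theorem eq_one_of_three_fix {x y z : G ⧸ Nm T} (hxy : x ≠ y) (hxz : x ≠ z) (hyz : y ≠ z) {d : G}
    (hdx : d • x = x) (hdy : d • y = y) (hdz : d • z = z) : d = 1 := by
  have hSE := isStronglyEmbedded_normalizer hC T hnc hnn
  obtain ⟨u₁, hu₁, h₁⟩ := exists_swap_pt hSE hxy
  obtain ⟨u₂, hu₂, h₂⟩ := exists_swap_pt hSE hyz
  obtain ⟨u₃, hu₃, h₃⟩ := exists_swap_pt hSE hxz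
  have i₁ := inverts_of_fix_two hC hSE hxy hu₁ h₁ hdx hdy
  have i₂ := inverts_of_fix_two hC hSE hyz hu₂ h₂ hdy hdz
  have i₃ := inverts_of_fix_two hC hSE hxz hu₃ h₃ hdx hdz
  have hu₂z : u₂ • z = y := by
    rw [← h₂, smul_smul, mul_self_of_sq (sq_of_orderOf_two hu₂), one_smul]
  have hu₁y : u₁ • y = x := by
    rw [← h₁, smul_smul, mul_self_of_sq (sq_of_orderOf_two hu₁), one_smul]
  set w := u₁ * u₂ * u₃ with hw
  have hwx : w • x = x := by
    rw [hw, mul_smul, mul_smul, h₃, hu₂z, hu₁y]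
  have hwd : w * d * w⁻¹ = d⁻¹ := by
    calc w * d * w⁻¹ = u₁ * (u₂ * (u₃ * d * u₃⁻¹) * u₂⁻¹) * u₁⁻¹ := by rw [hw]; group
      _ = u₁ * (u₂ * d⁻¹ * u₂⁻¹) * u₁⁻¹ := by rw [i₃]
      _ = u₁ * (u₂ * d * u₂⁻¹)⁻¹ * u₁⁻¹ := by group
      _ = u₁ * d⁻¹⁻¹ * u₁⁻¹ := by rw [i₂]
      _ = u₁ * d * u₁⁻¹ := by rw [inv_inv]
      _ = d⁻¹ := i₁
  have hodd := odd_orderOf_of_fix_two hSE hxy hdx hdy
  obtain ⟨u, hu, huH⟩ := exists_involution_outside hC T hnc hnn
  induction x using QuotientGroup.induction_on with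
  | H a =>
    have h1 : a⁻¹ * w * a ∈ Nm T := (smul_mk_eq_mk_iff w a).mp hwx
    have h2 : a⁻¹ * d * a ∈ Nm T := (smul_mk_eq_mk_iff d a).mp hdx
    have h3 := comm_mod_T hC T hnc hnn hu huH h1 h2
    have h4 : (a⁻¹ * w * a) * (a⁻¹ * d * a) * (a⁻¹ * w * a)⁻¹ * (a⁻¹ * d * a)⁻¹ =
        a⁻¹ * ((w * d * w⁻¹) * d⁻¹) * a := by group
    rw [h4, hwd] at h3
    have h5 := (sylow_structure hC T (sylow_ne_bot T hnc)).2 _ h3
    have h6 : d ^ 4 = 1 := by
      have h7 : a⁻¹ * (d⁻¹ * d⁻¹) * a * (a⁻¹ * (d⁻¹ * d⁻¹) * a) = a⁻¹ * (d ^ 4)⁻¹ * a := by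
        simp only [pow_succ, pow_zero, one_mul]
        group
      rw [sq, h7] at h5
      have h8 : (d ^ 4)⁻¹ = 1 := by
        have : a * (a⁻¹ * (d ^ 4)⁻¹ * a) * a⁻¹ = 1 := by rw [h5]; group
        simpa [mul_assoc] using this
      simpa using h8
    have h9 : orderOf d ∣ 2 ^ 2 := orderOf_dvd_of_pow_eq_one h6
    have h10 : Nat.Coprime (orderOf d) (2 ^ 2) := Nat.Coprime.pow_right 2 hodd.coprime_two_right
    exact orderOf_eq_one_iff.mp (Nat.Coprime.eq_one_of_dvd h10 h9)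

section WithU2

variable {u : G} (hu : orderOf u = 2) (huH : u ∉ Nm T)

include hC hnc hnn hu huH in
/-- `D` acts regularly on the nontrivial elements of `T`. -/
theorem card_D : Nat.card (Dd T u) + 1 = Nat.card (T : Subgroup G) := by
  have hSE := isStronglyEmbedded_normalizer hC T hnc hnn
  have hne := sylow_ne_bot T hnc
  obtain ⟨hcomm, hexp⟩ := sylow_structure hC T hne
  obtain ⟨z, hzT, hz, -⟩ := even_card_sylow_of_ne_bot T hne
  have hzN : z ∈ Nm T := Subgroup.le_normalizer hzT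
  have hmaps : ∀ d : Dd T u, d.1 * z * d.1⁻¹ ∈ (T : Subgroup G) := by
    intro d
    exact (Subgroup.mem_normalizer_iff.mp d.2.1 z).mp hzT
  let f : Dd T u → {t : (T : Subgroup G) // t ≠ 1} := fun d => ⟨⟨d.1 * z * d.1⁻¹, hmaps d⟩, by
    intro h
    have h1 : d.1 * z * d.1⁻¹ = 1 := congrArg Subtype.val h
    have h2 : z = 1 := by
      have : d.1⁻¹ * (d.1 * z * d.1⁻¹) * d.1 = 1 := by rw [h1]; group
      simpa [mul_assoc] using this
    rw [h2] at hz
    simp at hz⟩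
  have hf : Function.Bijective f := by
    constructor
    · rintro ⟨d, hd⟩ ⟨e, he⟩ h
      have h1 : d * z * d⁻¹ = e * z * e⁻¹ := congrArg (fun t => ((t.1 : (T : Subgroup G)) : G)) h
      have h2 : e⁻¹ * d ∈ (T : Subgroup G) := by
        rw [← centralizer_eq hC T hz hzT, mem_centralizer_singleton]
        have h3 : d * z = e * z * e⁻¹ * d := by
          have := congrArg (fun w => w * d) h1
          simpa [mul_assoc] using this
        calc e⁻¹ * d * z = e⁻¹ * (d * z) := by group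
          _ = e⁻¹ * (e * z * e⁻¹ * d) := by rw [h3]
          _ = z * (e⁻¹ * d) := by group
      have h3 : e⁻¹ * d ∈ Dd T u := (Dd T u).mul_mem ((Dd T u).inv_mem he) hd
      have h4 := D_inf_T hC T hnc hnn huH h3 h2
      apply Subtype.ext
      have h5 : d = e := by
        have := congrArg (fun w => e * w) h4
        simpa using this
      exact h5
    · rintro ⟨⟨t, htT⟩, ht1⟩
      have ht1' : t ≠ 1 := fun h => ht1 (Subtype.ext h)
      have hord : orderOf t = 2 := orderOf_eq_prime (hexp t htT) ht1'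
      obtain ⟨d, hd, hdz⟩ := exists_conj_mem_inf hSE hu huH hz hzN hord (Subgroup.le_normalizer htT)
      exact ⟨⟨d, hd⟩, Subtype.ext (Subtype.ext hdz)⟩
  have hc1 : Nat.card (Dd T u) = Nat.card {t : (T : Subgroup G) // t ≠ 1} :=
    Nat.card_congr (Equiv.ofBijective f hf)
  have hc2 : Nat.card (T : Subgroup G) = Nat.card {t : (T : Subgroup G) // t ≠ 1} + 1 := by
    classical
    rw [← Finite.card_option]
    exact Nat.card_congr (Equiv.optionSubtypeNe (1 : (T : Subgroup G))).symm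
  omega

include hC hnc hnn hu huH in
theorem isComplement_D_T :
    Subgroup.IsComplement' ((Dd T u).subgroupOf (Nm T)) ((T : Subgroup G).subgroupOf (Nm T)) := by
  constructor
  · rintro ⟨⟨d₁, hd₁⟩, ⟨t₁, ht₁⟩⟩ ⟨⟨d₂, hd₂⟩, ⟨t₂, ht₂⟩⟩ h
    have hd₁' : (d₁ : G) ∈ Dd T u := Subgroup.mem_subgroupOf.mp hd₁
    have hd₂' : (d₂ : G) ∈ Dd T u := Subgroup.mem_subgroupOf.mp hd₂
    have ht₁' : (t₁ : G) ∈ (T : Subgroup G) := Subgroup.mem_subgroupOf.mp ht₁
    have ht₂' : (t₂ : G) ∈ (T : Subgroup G) := Subgroup.mem_subgroupOf.mp ht₂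
    have h1 : (d₁ : G) * t₁ = (d₂ : G) * t₂ := congrArg Subtype.val h
    have h2 : (d₂ : G)⁻¹ * d₁ = t₂ * (t₁ : G)⁻¹ := by
      calc (d₂ : G)⁻¹ * d₁ = (d₂ : G)⁻¹ * ((d₁ : G) * t₁) * (t₁ : G)⁻¹ := by group
        _ = (d₂ : G)⁻¹ * ((d₂ : G) * t₂) * (t₁ : G)⁻¹ := by rw [h1]
        _ = t₂ * (t₁ : G)⁻¹ := by group
    have h3 : (d₂ : G)⁻¹ * d₁ ∈ Dd T u := (Dd T u).mul_mem ((Dd T u).inv_mem hd₂') hd₁'
    have h4 : (d₂ : G)⁻¹ * d₁ ∈ (T : Subgroup G) := by
      rw [h2]; exact (T : Subgroup G).mul_mem ht₂' ((T : Subgroup G).inv_mem ht₁')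
    have h5 := D_inf_T hC T hnc hnn huH h3 h4
    have h6 : (d₁ : G) = d₂ := by
      have := congrArg (fun w => (d₂ : G) * w) h5
      simpa using this
    have h7 : (t₁ : G) = t₂ := by
      rw [h6] at h1
      exact mul_left_cancel h1
    apply Prod.ext
    · exact Subtype.ext (Subtype.ext h6)
    · exact Subtype.ext (Subtype.ext h7)
  · rintro ⟨h, hh⟩
    obtain ⟨d, hd, t, ht, hdt⟩ := exists_dt hC T hnc hnn hu huH hh
    have htN : t ∈ Nm T := Subgroup.le_normalizer ht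
    have hdN : d ∈ Nm T := hd.1
    refine ⟨⟨⟨⟨d, hdN⟩, Subgroup.mem_subgroupOf.mpr hd⟩, ⟨⟨t, htN⟩, Subgroup.mem_subgroupOf.mpr ht⟩⟩, ?_⟩
    exact Subtype.ext hdt.symm

include hC hnc hnn hu huH in
theorem card_Nm : Nat.card (Nm T) = Nat.card (T : Subgroup G) * (Nat.card (T : Subgroup G) - 1) := by
  have h1 := (isComplement_D_T hC T hnc hnn hu huH).card_mul_card
  have h2 : Nat.card ((Dd T u).subgroupOf (Nm T)) = Nat.card (Dd T u) :=
    Nat.card_congr (Subgroup.subgroupOfEquivOfLe inf_le_left).toEquiv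
  have h3 : Nat.card ((T : Subgroup G).subgroupOf (Nm T)) = Nat.card (T : Subgroup G) :=
    Nat.card_congr (Subgroup.subgroupOfEquivOfLe Subgroup.le_normalizer).toEquiv
  have h4 := card_D hC T hnc hnn hu huH
  rw [← h1, h2, h3, mul_comm]
  congr 1
  omega

end WithU2

end Main

end Cfsg.Agent.Lib.StrongEmb.ElemCent2
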