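import Cfsg.Agent.Lib.StrongEmb.Basic

/-!
# Groups in which all involution centralizers are elementary abelian

Setup of Suzuki's characterisation of `PSL(2, 2ⁿ)`: `T` is a noncyclic, non-normal Sylow
2-subgroup of `G` and the centralizer of each involution is an elementary abelian 2-group.

We show: `N_G(T)` is strongly embedded, `T` is self-centralizing at each involution, a
complement `D` to `T` in `N_G(T)` is given by any two point stabilizer, inverted by each involution
swapping the two points; an element fixing three cosets is trivial; `T` is regular on the other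
cosets; `G` is sharply 3-transitive on cosets.
-/

set_option autoImplicit false
set_option linter.unusedSectionVars false

namespace Cfsg.Agent.Lib.StrongEmb.ElemCent

open Cfsg
open Cfsg.Agent.Lib.Involutions.Dihedral
open Cfsg.Agent.Lib.StrongEmb.Basic

variable {G : Type*} [Group G]

/-- All involution centralizers are elementary abelian 2-groups. -/
def ElemCentHyp (G : Type*) [Group G] : Prop :=
  ∀ t : G, orderOf t = 2 →
    IsMulCommutative (Subgroup.centralizer ({t} : Set G)) ∧
      ∀ c ∈ Subgroup.centralizer ({t} : Set G), c ^ 2 = 1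

theorem mem_centralizer_singleton {t c : G} :
    c ∈ Subgroup.centralizer ({t} : Set G) ↔ c * t = t * c := by
  rw [Subgroup.mem_centralizer_iff]
  constructor
  · intro h
    exact (h t (Set.mem_singleton t)).symm
  · intro h y hy
    rw [Set.mem_singleton_iff] at hy
    subst hy
    exact h.symm

theorem isPGroup_centralizer (hC : ElemCentHyp G) {t : G} (ht : orderOf t = 2) :
    IsPGroup 2 (Subgroup.centralizer ({t} : Set G)) := by
  rw [isPGroup_iff_pow_pow_eq_one]
  rintro ⟨c, hc⟩
  refine ⟨1, ?_⟩
  apply Subtype.ext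
  simpa using (hC t ht).2 c hc

variable [Finite G]

theorem even_card_sylow_of_ne_bot (P : Sylow 2 G) (hP : (P : Subgroup G) ≠ ⊥) :
    ∃ z : G, z ∈ (P : Subgroup G) ∧ orderOf z = 2 ∧ ∀ x ∈ (P : Subgroup G), x * z = z * x := by
  have : Fact (Nat.Prime 2) := ⟨Nat.prime_two⟩
  have hnt : Nontrivial (P : Subgroup G) := (Subgroup.nontrivial_iff_ne_bot _).mpr hP
  have h1 : Nontrivial (Subgroup.center (P : Subgroup G)) := P.2.center_nontrivial
  have h2 : 2 ∣ Nat.card (Subgroup.center (P : Subgroup G)) := by
    have hp : IsPGroup 2 (Subgroup.center (P : Subgroup G)) := P.2.to_subgroup _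
    rcases hp.card_eq_or_dvd with h | h
    · have := Finite.one_lt_card (α := Subgroup.center (P : Subgroup G))
      omega
    · exact h
  obtain ⟨z, hz⟩ := exists_prime_orderOf_dvd_card' 2 h2
  refine ⟨((z : (P : Subgroup G)) : G), (z : (P : Subgroup G)).2, ?_, ?_⟩
  · rwa [Subgroup.orderOf_coe, Subgroup.orderOf_coe]
  · intro x hx
    have := (Subgroup.mem_center_iff.mp z.2) ⟨x, hx⟩
    exact congrArg Subtype.val this

/-- A Sylow 2-subgroup containing an involution: it is elementary abelian, self-centralizing at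
each involution. -/
theorem sylow_structure (hC : ElemCentHyp G) (P : Sylow 2 G) (hP : (P : Subgroup G) ≠ ⊥) :
    (∀ x ∈ (P : Subgroup G), ∀ y ∈ (P : Subgroup G), x * y = y * x) ∧
      (∀ x ∈ (P : Subgroup G), x ^ 2 = 1) := by
  obtain ⟨z, hzP, hz, hzc⟩ := even_card_sylow_of_ne_bot P hP
  have hle : (P : Subgroup G) ≤ Subgroup.centralizer ({z} : Set G) := fun x hx =>
    mem_centralizer_singleton.mpr (hzc x hx)
  have heq : Subgroup.centralizer ({z} : Set G) = (P : Subgroup G) :=
    P.is_maximal' (isPGroup_centralizer hC hz) hle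
  obtain ⟨h1, h2⟩ := hC z hz
  rw [heq] at h1 h2
  refine ⟨?_, h2⟩
  intro x hx y hy
  have := h1.is_comm.comm ⟨x, hx⟩ ⟨y, hy⟩
  exact congrArg Subtype.val this

theorem centralizer_eq (hC : ElemCentHyp G) (P : Sylow 2 G) {s : G} (hs : orderOf s = 2)
    (hsP : s ∈ (P : Subgroup G)) : Subgroup.centralizer ({s} : Set G) = (P : Subgroup G) := by
  have hne : (P : Subgroup G) ≠ ⊥ := by
    intro h
    rw [h, Subgroup.mem_bot] at hsP
    subst hsP
    simp at hs
  have hcomm := (sylow_structure hC P hne).1
  exact P.is_maximal' (isPGroup_centralizer hC hs)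
    (fun x hx => mem_centralizer_singleton.mpr (hcomm x hx s hsP))

/-- An involution of `N(P)` lies in `P`. -/
theorem involution_mem_of_mem_normalizer (P : Sylow 2 G) {s : G} (hs : orderOf s = 2)
    (hsN : s ∈ Subgroup.normalizer ((P : Subgroup G) : Set G)) : s ∈ (P : Subgroup G) := by
  have : Fact (Nat.Prime 2) := ⟨Nat.prime_two⟩
  have h1 : IsPGroup 2 (Subgroup.zpowers s) := by
    refine IsPGroup.of_card (n := 1) ?_
    rw [Nat.card_zpowers, hs, pow_one]
  have h2 : IsPGroup 2 ((Subgroup.zpowers s ⊔ (P : Subgroup G) : Subgroup G)) :=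
    h1.to_sup_of_normal_right' P.2 (by
      rw [Subgroup.zpowers_le]; exact hsN)
  have h3 := P.is_maximal' h2 le_sup_right
  rw [← h3]
  exact (le_sup_left : Subgroup.zpowers s ≤ _) (Subgroup.mem_zpowers s)

theorem conj_sylow_mem_iff (P : Sylow 2 G) (g x : G) :
    x ∈ ((g • P : Sylow 2 G) : Subgroup G) ↔ g⁻¹ * x * g ∈ (P : Subgroup G) := by
  rw [Sylow.coe_subgroup_smul]
  exact mem_map_conj_iff

/-- `N_G(T)` is strongly embedded. -/
theorem isStronglyEmbedded_normalizer (hC : ElemCentHyp G) (T : Sylow 2 G)
    (hnc : ¬ IsCyclic (T : Subgroup G)) (hnn : ¬ (T : Subgroup G).Normal) :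
    IsStronglyEmbedded (Subgroup.normalizer ((T : Subgroup G) : Set G)) := by
  have : Fact (Nat.Prime 2) := ⟨Nat.prime_two⟩
  have hne : (T : Subgroup G) ≠ ⊥ := by
    intro h
    apply hnc
    rw [h]
    infer_instance
  refine ⟨?_, ?_, ?_⟩
  · intro h
    exact hnn (Subgroup.normalizer_eq_top_iff.mp h)
  · obtain ⟨z, hzT, hz, -⟩ := even_card_sylow_of_ne_bot T hne
    have hmem : z ∈ Subgroup.normalizer ((T : Subgroup G) : Set G) :=
      Subgroup.le_normalizer hzT
    have := Subgroup.orderOf_dvd_natCard _ hmem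
    rw [hz] at this
    exact (even_iff_two_dvd.mpr this)
  · intro g hg
    by_contra hodd
    rw [Nat.not_odd_iff_even] at hodd
    obtain ⟨s, hs⟩ := exists_prime_orderOf_dvd_card' 2 hodd.two_dvd
    have hs' : orderOf ((s : G)) = 2 := by rwa [Subgroup.orderOf_coe]
    have hsinf := s.2
    have hsN : (s : G) ∈ Subgroup.normalizer ((T : Subgroup G) : Set G) := hsinf.1
    have hsT := involution_mem_of_mem_normalizer T hs' hsN
    -- `s` lies in `g T g⁻¹`
    have h2 : g⁻¹ * (s : G) * g ∈ Subgroup.normalizer ((T : Subgroup G) : Set G) :=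
      mem_map_conj_iff.mp hsinf.2
    have hord : orderOf (g⁻¹ * (s : G) * g) = 2 := by
      have := orderOf_conj' g⁻¹ (s : G)
      rw [inv_inv] at this
      rw [this, hs']
    have h3 := involution_mem_of_mem_normalizer T hord h2
    have h4 : (s : G) ∈ ((g • T : Sylow 2 G) : Subgroup G) := (conj_sylow_mem_iff T g _).mpr h3
    have h5 := centralizer_eq hC T hs' hsT
    have h6 := centralizer_eq hC (g • T) hs' h4
    have h7 : ((g • T : Sylow 2 G) : Subgroup G) = (T : Subgroup G) := by rw [← h6, h5]
    apply hg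
    rw [Subgroup.mem_normalizer_iff]
    intro x
    constructor
    · intro hx
      have : g * x * g⁻¹ ∈ ((g • T : Sylow 2 G) : Subgroup G) := by
        rw [conj_sylow_mem_iff]
        convert hx using 1
        group
      rwa [h7] at this
    · intro hx
      rw [← h7] at hx
      have := (conj_sylow_mem_iff T g _).mp hx
      convert this using 1
      group

end Cfsg.Agent.Lib.StrongEmb.ElemCent
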